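import Cfsg.Agent.H428.U2.GL2

/-!
# The conclusion of `StU2P`, abstract form (helper428)
-/

set_option autoImplicit false
set_option linter.unusedSimpArgs false
set_option linter.unusedSectionVars false

namespace Cfsg.Agent.H428.U2

open Matrix

universe u v w

section abs

variable {F : Type v} [Field F] {A : Type w} [Group A] (ρ : GL (Fin 2) F →* A)

/-- the image of `B U B⁻¹` -/
def T (B : GL (Fin 2) F) : Subgroup A := ((Us F).map (MulAut.conj B).toMonoidHom).map ρ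

theorem map_conj {G : Type*} [Group G] (φ : G →* A) (X : Subgroup G) (g : G) :
    (X.map (MulAut.conj g).toMonoidHom).map φ = (X.map φ).map (MulAut.conj (φ g)).toMonoidHom := by
  rw [Subgroup.map_map, Subgroup.map_map]
  congr 1
  ext x
  simp

theorem conj_conj {G : Type*} [Group G] (X : Subgroup G) (g h : G) :
    (X.map (MulAut.conj g).toMonoidHom).map (MulAut.conj h).toMonoidHom = X.map (MulAut.conj (h * g)).toMonoidHom := by
  rw [Subgroup.map_map]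
  congr 1
  ext x
  simp [mul_assoc]

theorem T_conj (B C : GL (Fin 2) F) : (T ρ B).map (MulAut.conj (ρ C)).toMonoidHom = T ρ (C * B) := by
  unfold T
  rw [← map_conj, conj_conj]

theorem T_eq (B : GL (Fin 2) F) {b : GL (Fin 2) F} (hb : b.1 1 0 = 0) : T ρ (B * b) = T ρ B := by
  unfold T
  rw [← conj_conj, conj_Us hb]

theorem mem_T {B : GL (Fin 2) F} {a : A} : a ∈ T ρ B ↔ ∃ t, a = ρ (B * uu t * B⁻¹) := by
  constructor
  · rintro ⟨_, ⟨_, ⟨t, rfl⟩, rfl⟩, rfl⟩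
    exact ⟨t, rfl⟩
  · rintro ⟨t, rfl⟩
    exact ⟨_, ⟨_, ⟨t, rfl⟩, rfl⟩, rfl⟩

/-- the normalized situation -/
structure Nrm {L : Type u} [Group L] (p : ℕ) (φ : L →* A) (P : Sylow p L) : Prop where
  surj : Function.Surjective ρ
  exp : ∀ x ∈ (P : Subgroup L), x ^ p = 1
  cen : ∀ g, φ g = 1 → ∀ l, g * l = l * g
  one : ∀ g, φ g = 1 → g ^ p = 1 → g = 1
  img : (P : Subgroup L).map φ = T ρ 1

namespace Nrm

variable {ρ} {L : Type u} [Group L] [Finite L] {p : ℕ} [Fact p.Prime] {φ : L →* A} {P : Sylow p L} (N : Nrm ρ p φ P)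

include N

theorem exists_conj (P' : Sylow p L) : ∃ g : L, (P' : Subgroup L) = (P : Subgroup L).map (MulAut.conj g).toMonoidHom := by
  obtain ⟨g, hg⟩ := MulAction.exists_smul_eq L P P'
  refine ⟨g, ?_⟩
  rw [← hg, Sylow.coe_subgroup_smul]
  rfl

theorem exp' (P' : Sylow p L) : ∀ x ∈ (P' : Subgroup L), x ^ p = 1 := by
  obtain ⟨g, hg⟩ := N.exists_conj P'
  rw [hg]
  rintro _ ⟨x, hx, rfl⟩
  show (MulAut.conj g x) ^ p = 1
  rw [← map_pow, N.exp x hx, map_one]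

theorem le_of {X Y : Subgroup L} (hX : ∀ x ∈ X, x ^ p = 1) (hY : ∀ x ∈ Y, x ^ p = 1) (h : X.map φ ≤ Y.map φ) : X ≤ Y := by
  intro x hx
  obtain ⟨y, hy, e⟩ := h ⟨x, hx, rfl⟩
  have h1 : φ (y⁻¹ * x) = 1 := by rw [map_mul, map_inv, e, inv_mul_cancel]
  have h2 := N.cen _ h1
  have h3 : (y⁻¹ * x) ^ p = 1 := by
    have h4 : Commute y (y⁻¹ * x) := (h2 y).symm
    have h5 : (y * (y⁻¹ * x)) ^ p = y ^ p * (y⁻¹ * x) ^ p := h4.mul_pow p
    rw [mul_inv_cancel_left, hX x hx, hY y hy, one_mul] at h5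
    exact h5.symm
  have h4 := N.one _ h1 h3
  have h5 : x = y := by
    have h6 := congrArg (y * ·) h4
    simpa using h6
  rw [h5]
  exact hy

theorem eq_of {X Y : Subgroup L} (hX : ∀ x ∈ X, x ^ p = 1) (hY : ∀ x ∈ Y, x ^ p = 1) (h : X.map φ = Y.map φ) : X = Y :=
  le_antisymm (N.le_of hX hY h.le) (N.le_of hY hX h.ge)

theorem exp_conj {X : Subgroup L} (hX : ∀ x ∈ X, x ^ p = 1) (g : L) :
    ∀ x ∈ X.map (MulAut.conj g).toMonoidHom, x ^ p = 1 := by
  rintro _ ⟨x, hx, rfl⟩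
  show (MulAut.conj g x) ^ p = 1
  rw [← map_pow, hX x hx, map_one]

/-- the other Sylow subgroups -/
theorem exists_l {P' : Sylow p L} (h : P' ≠ P) : ∃ l : F, (P' : Subgroup L).map φ = T ρ (uu l * ww) := by
  obtain ⟨g, hg⟩ := N.exists_conj P'
  obtain ⟨B, hB⟩ := N.surj (φ g)
  have h1 : (P' : Subgroup L).map φ = T ρ B := by
    rw [hg, map_conj, N.img, ← hB, T_conj, mul_one]
  have h2 : B.1 1 0 ≠ 0 := by
    intro h0
    apply h
    apply Sylow.ext
    apply N.eq_of (N.exp' P') N.exp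
    rw [h1, N.img, ← T_eq ρ 1 h0, one_mul]
  obtain ⟨l, b, hb, e⟩ := bruhat h2
  refine ⟨l, ?_⟩
  rw [h1, e, T_eq ρ _ hb]

/-- elements of `P` -/
theorem exists_x (t : F) : ∃ x ∈ (P : Subgroup L), φ x = ρ (uu t) := by
  have h1 : ρ (uu t) ∈ (P : Subgroup L).map φ := by
    rw [N.img, mem_T]
    exact ⟨t, by rw [one_mul, inv_one, mul_one]⟩
  exact h1

theorem exists_y {P' : Sylow p L} {l : F} (h : (P' : Subgroup L).map φ = T ρ (uu l * ww)) (t : F) :
    ∃ y ∈ (P' : Subgroup L), φ y = ρ (uu l * (ww * uu t * ww⁻¹) * uu (-l)) := by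
  have h1 : ρ (uu l * (ww * uu t * ww⁻¹) * uu (-l)) ∈ (P' : Subgroup L).map φ := by
    rw [h, mem_T]
    refine ⟨t, ?_⟩
    rw [← uu_inv]
    congr 1
    group
  exact h1

theorem fst : ∀ P' P'' : Sylow p L, P' ≠ P → P'' ≠ P → ∃ x ∈ (P : Subgroup L),
      (P' : Subgroup L).map (MulAut.conj x).toMonoidHom = P'' := by
  intro P' P'' h' h''
  obtain ⟨l', e'⟩ := N.exists_l h'
  obtain ⟨l'', e''⟩ := N.exists_l h''
  obtain ⟨x, hx, ex⟩ := N.exists_x (l'' - l')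
  refine ⟨x, hx, ?_⟩
  apply N.eq_of (N.exp_conj (N.exp' P') x) (N.exp' P'')
  rw [map_conj, e', e'', ex, T_conj, ← mul_assoc, uu_mul, sub_add_cancel]

theorem snd : ∀ P' : Sylow p L, P' ≠ P → ∃ x y : L, x ∈ (P : Subgroup L) ∧ x ≠ 1 ∧ y ∈ (P' : Subgroup L) ∧
      (P : Subgroup L).map (MulAut.conj (x * y * x)).toMonoidHom = P' ∧
      (P' : Subgroup L).map (MulAut.conj (x * y * x)).toMonoidHom = P := by
  intro P' h'
  obtain ⟨l, e⟩ := N.exists_l h'
  obtain ⟨x, hx, ex⟩ := N.exists_x 1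
  obtain ⟨y, hy, ey⟩ := N.exists_y e 1
  have exyx : φ (x * y * x) = ρ (uu l * ww * uu (-l)) := by
    rw [map_mul, map_mul, ex, ey, ← map_mul, ← map_mul]
    congr 1
    have h1 : (uu 1 * uu l : GL (Fin 2) F) = uu l * uu 1 := by rw [uu_mul, uu_mul, add_comm]
    have h2 : (uu (-l) * uu 1 : GL (Fin 2) F) = uu 1 * uu (-l) := by rw [uu_mul, uu_mul, add_comm]
    calc (uu 1 * (uu l * (ww * uu 1 * ww⁻¹) * uu (-l)) * uu 1 : GL (Fin 2) F)
        = (uu 1 * uu l) * (ww * uu 1 * ww⁻¹) * (uu (-l) * uu 1) := by group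
      _ = uu l * (uu 1 * (ww * uu 1 * ww⁻¹) * uu 1) * uu (-l) := by rw [h1, h2]; group
      _ = uu l * ww * uu (-l) := by rw [xyx]
  have b1 : ((uu (-l) : GL (Fin 2) F)).1 1 0 = 0 := by rw [coe_uu]; simp
  have A1 : (P : Subgroup L).map (MulAut.conj (x * y * x)).toMonoidHom = P' := by
    apply N.eq_of (N.exp_conj N.exp _) (N.exp' P')
    rw [map_conj, N.img, e, exyx, T_conj, mul_one, T_eq ρ _ b1]
  have A2 : (P' : Subgroup L).map (MulAut.conj (x * y * x)).toMonoidHom = P := by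
    apply N.eq_of (N.exp_conj (N.exp' P') _) N.exp
    rw [map_conj, N.img, e, exyx, T_conj]
    have h1 : (uu l * ww * uu (-l) * (uu l * ww) : GL (Fin 2) F) = 1 * (uu l * (ww * ww)) := by
      rw [← uu_inv]
      group
    rw [h1, T_eq ρ]
    rw [Units.val_mul, coe_uu]
    have h2 := ww_sq (F := F)
    simp [Matrix.mul_apply, Fin.sum_univ_two] at h2 ⊢
    tauto
  refine ⟨x, y, hx, ?_, hy, A1, A2⟩
  rintro rfl
  apply h'
  rw [one_mul, mul_one] at A1
  apply Sylow.ext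
  rw [← A1]
  have h3 : (P' : Subgroup L) ≤ (P' : Subgroup L).map (MulAut.conj y).toMonoidHom := by
    intro z hz
    refine ⟨y⁻¹ * z * y, mul_mem (mul_mem (inv_mem hy) hz) hy, ?_⟩
    show y * (y⁻¹ * z * y) * y⁻¹ = z
    group
  have h4 : (P' : Subgroup L).map (MulAut.conj y).toMonoidHom ≤ P' := by
    rintro _ ⟨z, hz, rfl⟩
    exact mul_mem (mul_mem hy hz) (inv_mem hy)
  rw [one_mul, mul_one] at A2
  rw [A1]
  exact (le_antisymm h3 h4).trans A2

theorem thd (hk : ∀ g : GL (Fin 2) F, ρ g = 1 → g.1 0 1 = 0) [Finite F] (hF : Nat.card F = p)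
    (hn : ∃ P' : Sylow p L, P' ≠ P) :
    ∃ h ∈ Subgroup.normalizer ((P : Subgroup L) : Set L),
      ∀ k : ℕ, 0 < k → 2 * k < p - 1 → ∀ x ∈ (P : Subgroup L), x ≠ 1 → h ^ k * x * (h ^ k)⁻¹ ≠ x := by
  obtain ⟨P', h'⟩ := hn
  obtain ⟨l, e⟩ := N.exists_l h'
  have h1 : ∀ t : F, ∃ g : L, φ g = ρ (uu t) := fun t => by
    obtain ⟨x, -, hx⟩ := N.exists_x t
    exact ⟨x, hx⟩
  have h2 : ∀ t : F, ∃ g : L, φ g = ρ (ww * uu t * ww⁻¹) := fun t => by
    obtain ⟨x, hx⟩ := h1 l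
    obtain ⟨y, -, hy⟩ := N.exists_y e t
    refine ⟨x⁻¹ * y * x, ?_⟩
    rw [map_mul, map_mul, map_inv, hx, hy, ← map_inv, ← map_mul, ← map_mul]
    congr 1
    rw [← uu_inv]
    group
  have h3 : ∀ m : Fˣ, ∃ g : L, φ g = ρ (dd m) := fun m => by
    obtain ⟨a, ha⟩ := h1 (m : F)
    obtain ⟨b, hb⟩ := h2 ((m⁻¹ : Fˣ) : F)
    obtain ⟨a', ha'⟩ := h1 (-1)
    obtain ⟨b', hb'⟩ := h2 (-1)
    refine ⟨a * b * a * (a' * b' * a'), ?_⟩
    rw [dd_eq]
    simp only [map_mul, ha, hb, ha', hb']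
  have := Fintype.ofFinite F
  obtain ⟨m, hm⟩ := IsCyclic.exists_generator (α := Fˣ)
  obtain ⟨h, hh⟩ := h3 m
  have hord : orderOf m = p - 1 := by
    rw [orderOf_eq_card_of_forall_mem_zpowers hm, Nat.card_units, hF]
  refine ⟨h, ?_, ?_⟩
  · have h4 : (P : Subgroup L).map (MulAut.conj h).toMonoidHom = P := by
      apply N.eq_of (N.exp_conj N.exp _) N.exp
      rw [map_conj, N.img, hh, T_conj, mul_one]
      conv_lhs => rw [← one_mul (dd m)]
      exact T_eq ρ 1 (dd_10 m)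
    rw [Subgroup.mem_normalizer_iff]
    intro x
    constructor
    · intro hx
      have : MulAut.conj h x ∈ (P : Subgroup L).map (MulAut.conj h).toMonoidHom := ⟨x, hx, rfl⟩
      rw [h4] at this
      exact this
    · intro hx
      have h5 : h * x * h⁻¹ ∈ (P : Subgroup L).map (MulAut.conj h).toMonoidHom := by rw [h4]; exact hx
      obtain ⟨z, hz, e⟩ := h5
      have h6 : h * z * h⁻¹ = h * x * h⁻¹ := e
      have h7 : z = x := mul_left_cancel (mul_right_cancel h6)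
      rw [← h7]
      exact hz
  · intro k hk0 hkp x hx hx1 hcon
    have h4 : φ x ∈ (P : Subgroup L).map φ := ⟨x, hx, rfl⟩
    rw [N.img, mem_T] at h4
    obtain ⟨t, ht⟩ := h4
    rw [one_mul, inv_one, mul_one] at ht
    have ht0 : t ≠ 0 := by
      rintro rfl
      rw [uu_zero, map_one] at ht
      exact hx1 (N.one x ht (N.exp x hx))
    have h5 := congrArg φ hcon
    rw [map_mul, map_mul, map_inv, map_pow, hh, ht, ← map_pow, dd_pow, ← map_inv, ← map_mul, ← map_mul, dd_conj] at h5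
    have h6 : ρ (uu (((m ^ k : Fˣ) : F) ^ 2 * t - t)) = 1 := by
      rw [sub_eq_add_neg, ← uu_mul, map_mul, h5, ← map_mul, uu_mul, add_neg_cancel, uu_zero, map_one]
    have h7 := hk _ h6
    rw [coe_uu] at h7
    have h8 : ((m ^ k : Fˣ) : F) ^ 2 = 1 := by
      have h9 : (((m ^ k : Fˣ) : F) ^ 2 - 1) * t = 0 := by
        have h10 : ((m ^ k : Fˣ) : F) ^ 2 * t - t = 0 := h7
        linear_combination h10
      exact sub_eq_zero.1 ((mul_eq_zero.1 h9).resolve_right ht0)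
    have h9 : m ^ (2 * k) = 1 := by
      apply Units.ext
      rw [mul_comm, pow_mul, Units.val_pow_eq_pow_val, Units.val_one]
      exact h8
    have h10 := orderOf_dvd_of_pow_eq_one h9
    rw [hord] at h10
    exact absurd (Nat.le_of_dvd (by omega) h10) (by omega)

end Nrm

end abs

end Cfsg.Agent.H428.U2
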