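import Mathlib

/-!
# S5211, `StU2P`: the conclusion (helper428)
-/

set_option autoImplicit false

namespace Cfsg.Agent.H428.U2

universe u

/-- the conclusion of `StU2P` (and `StU2`) for a Sylow `p`-subgroup `P` of the group `L` -/
def Concl {L : Type u} [Group L] (p : ℕ) [Fact p.Prime] (P : Sylow p L) : Prop :=
    (∀ P' P'' : Sylow p L, P' ≠ P → P'' ≠ P → ∃ x ∈ (P : Subgroup L),
      (P' : Subgroup L).map (MulAut.conj x).toMonoidHom = P'') ∧
    (∀ P' : Sylow p L, P' ≠ P → ∃ x y : L, x ∈ (P : Subgroup L) ∧ x ≠ 1 ∧ y ∈ (P' : Subgroup L) ∧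
      (P : Subgroup L).map (MulAut.conj (x * y * x)).toMonoidHom = P' ∧
      (P' : Subgroup L).map (MulAut.conj (x * y * x)).toMonoidHom = P) ∧
    (∃ h ∈ Subgroup.normalizer ((P : Subgroup L) : Set L),
      ∀ k : ℕ, 0 < k → 2 * k < p - 1 → ∀ x ∈ (P : Subgroup L), x ≠ 1 → h ^ k * x * (h ^ k)⁻¹ ≠ x)

end Cfsg.Agent.H428.U2
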