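import Cfsg.Agent.H428.U2.Defs

/-!
# The conclusion of `StU2P` for groups mapping into `PGL₂(p)` (helper428)
-/

set_option autoImplicit false
set_option linter.unusedSimpArgs false

namespace Cfsg.Agent.H428.U2

open Matrix

universe u v w

section mats

variable {F : Type v} [Field F]

/-- upper unitriangular matrices -/
def uu (t : F) : GL (Fin 2) F :=
  ⟨!![1, t; 0, 1], !![1, -t; 0, 1], by
    rw [Matrix.mul_fin_two, Matrix.one_fin_two]; congr <;> simp, by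
    rw [Matrix.mul_fin_two, Matrix.one_fin_two]; congr <;> simp⟩

/-- the Weyl element -/
def ww : GL (Fin 2) F :=
  ⟨!![0, 1; -1, 0], !![0, -1; 1, 0], by
    rw [Matrix.mul_fin_two, Matrix.one_fin_two]; congr <;> simp, by
    rw [Matrix.mul_fin_two, Matrix.one_fin_two]; congr <;> simp⟩

/-- the diagonal matrices of determinant one -/
def dd (m : Fˣ) : GL (Fin 2) F :=
  ⟨!![(m : F), 0; 0, ((m⁻¹ : Fˣ) : F)], !![((m⁻¹ : Fˣ) : F), 0; 0, (m : F)], by
    rw [Matrix.mul_fin_two, Matrix.one_fin_two]; congr <;> simp, by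
    rw [Matrix.mul_fin_two, Matrix.one_fin_two]; congr <;> simp⟩

theorem coe_uu (t : F) : ((uu t : GL (Fin 2) F) : Matrix (Fin 2) (Fin 2) F) = !![1, t; 0, 1] := rfl
theorem coe_ww : ((ww : GL (Fin 2) F) : Matrix (Fin 2) (Fin 2) F) = !![0, 1; -1, 0] := rfl
theorem coe_ww_inv : ((ww⁻¹ : GL (Fin 2) F) : Matrix (Fin 2) (Fin 2) F) = !![0, -1; 1, 0] := rfl
theorem coe_dd (m : Fˣ) : ((dd m : GL (Fin 2) F) : Matrix (Fin 2) (Fin 2) F) = !![(m : F), 0; 0, ((m⁻¹ : Fˣ) : F)] := rfl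

theorem ext2 {g h : GL (Fin 2) F} (h00 : g.1 0 0 = h.1 0 0) (h01 : g.1 0 1 = h.1 0 1) (h10 : g.1 1 0 = h.1 1 0)
    (h11 : g.1 1 1 = h.1 1 1) : g = h := by
  apply Units.ext
  ext i j
  fin_cases i <;> fin_cases j
  · exact h00
  · exact h01
  · exact h10
  · exact h11

theorem uu_mul (s t : F) : uu s * uu t = uu (s + t) := by
  apply Units.ext
  rw [Units.val_mul, coe_uu, coe_uu, coe_uu]
  ext i j
  fin_cases i <;> fin_cases j <;> simp [Matrix.mul_apply, Fin.sum_univ_two, add_comm]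

theorem uu_zero : (uu 0 : GL (Fin 2) F) = 1 := by
  apply Units.ext
  rw [coe_uu, Units.val_one, Matrix.one_fin_two]

theorem uu_inv (t : F) : (uu t)⁻¹ = uu (-t) := by
  rw [inv_eq_iff_mul_eq_one, uu_mul, add_neg_cancel, uu_zero]

theorem uu_inj {s t : F} (h : uu s = uu t) : s = t := by
  have h1 := congrArg (fun g : GL (Fin 2) F => g.1 0 1) h
  exact h1

/-- the upper unitriangular group -/
def Us (F : Type v) [Field F] : Subgroup (GL (Fin 2) F) where
  carrier := Set.range uu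
  one_mem' := ⟨0, uu_zero⟩
  mul_mem' := by
    rintro _ _ ⟨s, rfl⟩ ⟨t, rfl⟩
    exact ⟨s + t, (uu_mul s t).symm⟩
  inv_mem' := by
    rintro _ ⟨t, rfl⟩
    exact ⟨-t, (uu_inv t).symm⟩

theorem mem_Us {g : GL (Fin 2) F} : g ∈ Us F ↔ ∃ t, uu t = g := Iff.rfl

theorem card_Us : Nat.card (Us F) = Nat.card F := by
  refine (Nat.card_eq_of_bijective (fun t : F => (⟨uu t, t, rfl⟩ : Us F)) ⟨?_, ?_⟩).symm
  · intro s t h
    exact uu_inj (congrArg Subtype.val h)
  · rintro ⟨_, t, rfl⟩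
    exact ⟨t, rfl⟩

/-- upper triangular matrices normalize -/
theorem conj_Us {b : GL (Fin 2) F} (hb : b.1 1 0 = 0) : (Us F).map (MulAut.conj b).toMonoidHom = Us F := by
  have key : ∀ c : GL (Fin 2) F, c.1 1 0 = 0 → ∀ t : F, ∃ s : F, c * uu t * c⁻¹ = uu s := by
    intro c hc t
    have hd : c.1 0 0 * c.1 1 1 ≠ 0 := by
      have h1 : (c.1).det ≠ 0 := by
        have h2 : (c.1).det = ((GeneralLinearGroup.det c : Fˣ) : F) := rfl
        rw [h2]
        exact Units.ne_zero _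
      rw [Matrix.det_fin_two, hc] at h1
      simpa using h1
    have h0 : c.1 0 0 ≠ 0 := left_ne_zero_of_mul hd
    have h1 : c.1 1 1 ≠ 0 := right_ne_zero_of_mul hd
    refine ⟨c.1 0 0 * t / c.1 1 1, ?_⟩
    rw [mul_inv_eq_iff_eq_mul]
    apply Units.ext
    rw [Units.val_mul, Units.val_mul, coe_uu, coe_uu]
    ext i j
    fin_cases i <;> fin_cases j
    · simp [Matrix.mul_apply, Fin.sum_univ_two, hc]
    · simp [Matrix.mul_apply, Fin.sum_univ_two, hc]
      field_simp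
      ring
    · simp [Matrix.mul_apply, Fin.sum_univ_two, hc]
    · simp [Matrix.mul_apply, Fin.sum_univ_two, hc]
  have hb' : (b⁻¹).1 1 0 = 0 := by
    have h1 : (b⁻¹).1 = (b.1)⁻¹ := Matrix.coe_units_inv b
    rw [h1, Matrix.inv_def, Matrix.adjugate_fin_two]
    simp [hb]
  apply le_antisymm
  · rintro _ ⟨_, ⟨t, rfl⟩, rfl⟩
    obtain ⟨s, hs⟩ := key b hb t
    exact ⟨s, hs.symm⟩
  · rintro _ ⟨t, rfl⟩
    obtain ⟨s, hs⟩ := key b⁻¹ hb' t
    refine ⟨uu s, ⟨s, rfl⟩, ?_⟩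
    show b * uu s * b⁻¹ = uu t
    rw [← hs]
    group

/-- Bruhat decomposition -/
theorem bruhat {B : GL (Fin 2) F} (hB : B.1 1 0 ≠ 0) : ∃ (l : F) (b : GL (Fin 2) F), b.1 1 0 = 0 ∧ B = uu l * ww * b := by
  refine ⟨B.1 0 0 / B.1 1 0, ww⁻¹ * uu (-(B.1 0 0 / B.1 1 0)) * B, ?_, ?_⟩
  · rw [Units.val_mul, Units.val_mul, coe_ww_inv, coe_uu]
    simp [Matrix.mul_apply, Fin.sum_univ_two]
    field_simp
    ring
  · rw [← uu_inv]
    group

/-- `x y x` -/
theorem xyx : (uu 1 * (ww * uu 1 * ww⁻¹) * uu 1 : GL (Fin 2) F) = ww := by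
  apply Units.ext
  simp only [Units.val_mul, coe_ww, coe_ww_inv, coe_uu]
  ext i j
  fin_cases i <;> fin_cases j <;> simp [Matrix.mul_apply, Fin.sum_univ_two]

theorem ww_sq : ((ww * ww : GL (Fin 2) F) : Matrix (Fin 2) (Fin 2) F) 1 0 = 0 := by
  rw [Units.val_mul, coe_ww]
  simp [Matrix.mul_apply, Fin.sum_univ_two]

theorem dd_10 (m : Fˣ) : (dd m).1 1 0 = 0 := by rw [coe_dd]; simp

theorem dd_mul (m n : Fˣ) : dd m * dd n = dd (m * n) := by
  apply Units.ext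
  rw [Units.val_mul, coe_dd, coe_dd, coe_dd]
  ext i j
  fin_cases i <;> fin_cases j <;> simp [Matrix.mul_apply, Fin.sum_univ_two, mul_comm]

theorem dd_one : (dd 1 : GL (Fin 2) F) = 1 := by
  apply Units.ext
  rw [coe_dd, Units.val_one]
  ext i j
  fin_cases i <;> fin_cases j <;> simp

theorem dd_pow (m : Fˣ) (k : ℕ) : dd m ^ k = dd (m ^ k) := by
  induction k with
  | zero => rw [pow_zero, pow_zero, dd_one]
  | succ k ih => rw [pow_succ, ih, dd_mul, pow_succ]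

theorem dd_conj (m : Fˣ) (t : F) : dd m * uu t * (dd m)⁻¹ = uu ((m : F) ^ 2 * t) := by
  rw [mul_inv_eq_iff_eq_mul]
  apply Units.ext
  rw [Units.val_mul, Units.val_mul, coe_uu, coe_uu, coe_dd]
  have hm : (m : F) ≠ 0 := m.ne_zero
  ext i j
  fin_cases i <;> fin_cases j
  · simp [Matrix.mul_apply, Fin.sum_univ_two]
  · simp [Matrix.mul_apply, Fin.sum_univ_two]
    field_simp
  · simp [Matrix.mul_apply, Fin.sum_univ_two]
  · simp [Matrix.mul_apply, Fin.sum_univ_two]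

/-- the torus from root elements -/
theorem dd_eq (m : Fˣ) : dd m = uu (m : F) * (ww * uu ((m⁻¹ : Fˣ) : F) * ww⁻¹) * uu (m : F) *
    (uu (-1) * (ww * uu (-1) * ww⁻¹) * uu (-1)) := by
  apply Units.ext
  simp only [Units.val_mul, coe_ww, coe_ww_inv, coe_uu, coe_dd]
  ext i j
  fin_cases i <;> fin_cases j <;> simp [Matrix.mul_apply, Fin.sum_univ_two]

end mats

end Cfsg.Agent.H428.U2
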