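import Cfsg.Agent.H428.U2.Abs
import Mathlib.LinearAlgebra.Matrix.GeneralLinearGroup.Card

/-!
# The conclusion of `StU2P` from a homomorphism into a quotient of `GL₂(p)` (helper428)
-/

set_option autoImplicit false
set_option linter.unusedSimpArgs false
set_option linter.unusedSectionVars false

namespace Cfsg.Agent.H428.U2

open Matrix

universe u v w

variable {F : Type v} [Field F]

theorem finite_GL [Finite F] : Finite (GL (Fin 2) F) := by
  refine Finite.of_injective (fun g : GL (Fin 2) F => (g : Matrix (Fin 2) (Fin 2) F)) Units.val_injective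

theorem card_GL [Finite F] {p : ℕ} (hF : Nat.card F = p) : Nat.card (GL (Fin 2) F) = p * ((p - 1) * (p ^ 2 - 1)) := by
  have := Fintype.ofFinite F
  have h1 := Matrix.card_GL_field (𝔽 := F) 2
  rw [h1, Fin.prod_univ_two, ← Nat.card_eq_fintype_card, hF]
  simp only [Fin.val_zero, Fin.val_one, pow_zero, pow_one]
  have h2 : p ^ 2 - p = p * (p - 1) := by
    rw [Nat.mul_sub, pow_two, mul_one]
  rw [h2]
  ring

theorem not_sq_dvd [Finite F] {p : ℕ} (hp : p.Prime) (hF : Nat.card F = p) : ¬ p ^ 2 ∣ Nat.card (GL (Fin 2) F) := by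
  rw [card_GL hF]
  intro h
  have h0 : p * p ∣ p * ((p - 1) * (p ^ 2 - 1)) := by
    refine dvd_trans ?_ h
    rw [pow_two]
  have h1 : p ∣ (p - 1) * (p ^ 2 - 1) := Nat.dvd_of_mul_dvd_mul_left hp.pos h0
  have h2 := hp.two_le
  rcases (Nat.Prime.dvd_mul hp).1 h1 with h3 | h3
  · exact absurd (Nat.le_of_dvd (by omega) h3) (by omega)
  · have h4 : p ∣ p ^ 2 := dvd_pow_self p two_ne_zero
    have h5 : 1 ≤ p ^ 2 := Nat.one_le_pow _ _ hp.pos
    have h6 : p ∣ p ^ 2 - (p ^ 2 - 1) := Nat.dvd_sub h4 h3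
    have h7 : p ^ 2 - (p ^ 2 - 1) = 1 := by omega
    rw [h7] at h6
    exact hp.one_lt.ne' (Nat.dvd_one.1 h6)

/-- elements of order `p` of `GL₂(p)` -/
theorem exists_uu [Finite F] {p : ℕ} [hp : Fact p.Prime] (hF : Nat.card F = p) {B : GL (Fin 2) F} (hB : B ^ p = 1) :
    ∃ (C : GL (Fin 2) F) (t : F), B = C * uu t * C⁻¹ := by
  have := finite_GL (F := F)
  have hfac : (Nat.card (GL (Fin 2) F)).factorization p = 1 := by
    have h1 : p ∣ Nat.card (GL (Fin 2) F) := by rw [card_GL hF]; exact dvd_mul_right _ _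
    have h0 : Nat.card (GL (Fin 2) F) ≠ 0 := Nat.card_pos.ne'
    have h2 : 1 ≤ (Nat.card (GL (Fin 2) F)).factorization p := (hp.out.dvd_iff_one_le_factorization h0).1 h1
    have h3 : ¬ 2 ≤ (Nat.card (GL (Fin 2) F)).factorization p := by
      intro h
      exact not_sq_dvd hp.out hF ((hp.out.pow_dvd_iff_le_factorization h0).2 h)
    omega
  have hUs : Nat.card (Us F) = p ^ (Nat.card (GL (Fin 2) F)).factorization p := by
    rw [hfac, pow_one, card_Us, hF]
  have hpg : IsPGroup p (Subgroup.zpowers B) := by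
    rintro ⟨_, m, rfl⟩
    refine ⟨1, Subtype.ext ?_⟩
    rw [Subgroup.coe_pow, Subgroup.coe_one, pow_one]
    show (B ^ m) ^ p = 1
    rw [← zpow_natCast, ← _root_.zpow_mul, mul_comm, _root_.zpow_mul, zpow_natCast, hB, _root_.one_zpow]
  obtain ⟨Q, hQ⟩ := hpg.exists_le_sylow
  obtain ⟨C, hC⟩ := MulAction.exists_smul_eq (GL (Fin 2) F) (Sylow.ofCard (Us F) hUs) Q
  have h1 : B ∈ (Q : Subgroup (GL (Fin 2) F)) := hQ (Subgroup.mem_zpowers B)
  rw [← hC, Sylow.coe_subgroup_smul] at h1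
  obtain ⟨_, ⟨t, rfl⟩, e⟩ := h1
  exact ⟨C, t, e.symm⟩

/-- **the conclusion of `StU2P` for groups with a homomorphism to a quotient of `GL₂(p)` with a central `p'`-kernel** -/
theorem concl_of_hom [Finite F] {p : ℕ} [hp : Fact p.Prime] (hF : Nat.card F = p) {A : Type w} [Group A]
    (ρ : GL (Fin 2) F →* A) (hs : Function.Surjective ρ) (hk : ∀ g : GL (Fin 2) F, ρ g = 1 → g.1 0 1 = 0)
    (hk' : ∀ g : GL (Fin 2) F, ρ g = 1 → g ^ (p - 1) = 1)
    {L : Type u} [Group L] [Finite L] (φ : L →* A) (hc : ∀ g, φ g = 1 → ∀ l, g * l = l * g)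
    (h1 : ∀ g, φ g = 1 → g ^ p = 1 → g = 1) (hpL : p ∣ Nat.card L) (P : Sylow p L) (hn : ¬ (P : Subgroup L).Normal) :
    Concl p P := by
  have := finite_GL (F := F)
  have : Finite A := Finite.of_surjective ρ hs
  -- `φ` is injective on `P`
  have hinj : ∀ x ∈ (P : Subgroup L), φ x = 1 → x = 1 := by
    intro x hx hx1
    obtain ⟨k, hk⟩ := P.isPGroup' ⟨x, hx⟩
    have hk0 : x ^ p ^ k = 1 := congrArg Subtype.val hk
    clear hk
    induction k with
    | zero => rwa [pow_zero, pow_one] at hk0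
    | succ k ih =>
      apply ih
      apply h1
      · rw [map_pow, hx1, one_pow]
      · rw [← pow_mul, ← pow_succ, hk0]
  have hcardmap : Nat.card ((P : Subgroup L).map φ) = Nat.card P := by
    refine (Nat.card_eq_of_bijective (fun x : P => (⟨φ x, x, x.2, rfl⟩ : (P : Subgroup L).map φ)) ⟨?_, ?_⟩).symm
    · intro x y hxy
      have h2 : φ x = φ y := congrArg Subtype.val hxy
      have h3 : φ ((y : L)⁻¹ * x) = 1 := by rw [map_mul, map_inv, h2, inv_mul_cancel]
      exact Subtype.ext (inv_mul_eq_one.1 (hinj _ (mul_mem (inv_mem y.2) x.2) h3)).symm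
    · rintro ⟨_, x, hx, rfl⟩
      exact ⟨⟨x, hx⟩, rfl⟩
  -- `|P| = p`
  have hdvd : Nat.card P ∣ Nat.card (GL (Fin 2) F) := by
    rw [← hcardmap]
    exact (Subgroup.card_subgroup_dvd_card _).trans (Subgroup.card_dvd_of_surjective ρ hs)
  have hPcard : Nat.card P = p := by
    obtain ⟨n, hn⟩ := IsPGroup.iff_card.1 P.isPGroup'
    have h2 : n < 2 := by
      by_contra hcon
      push Not at hcon
      apply not_sq_dvd hp.out hF
      rw [hn] at hdvd
      exact (pow_dvd_pow p hcon).trans hdvd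
    have h3 : n ≠ 0 := by
      rintro rfl
      have h4 := P.card_eq_multiplicity
      have h5 : 1 ≤ (Nat.card L).factorization p := (hp.out.dvd_iff_one_le_factorization Nat.card_pos.ne').1 hpL
      have h6 : Nat.card P = 1 := by rw [hn, pow_zero]
      rw [h6] at h4
      have h7 : 1 < p ^ (Nat.card L).factorization p := Nat.one_lt_pow (by omega) hp.out.one_lt
      omega
    have h4 : n = 1 := by omega
    rw [hn, h4, pow_one]
  -- a generator
  have : Fact (Nat.card P).Prime := ⟨by rw [hPcard]; exact hp.out⟩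
  have hPexp : ∀ x ∈ (P : Subgroup L), x ^ p = 1 := by
    intro x hx
    have h2 : (⟨x, hx⟩ : P) ^ Nat.card P = 1 := pow_card_eq_one'
    rw [hPcard] at h2
    exact congrArg Subtype.val h2
  obtain ⟨x0, hx0, hx01⟩ : ∃ x ∈ (P : Subgroup L), x ≠ 1 := by
    by_contra hcon
    push Not at hcon
    have h2 : Nat.card P = 1 := by
      rw [Nat.card_eq_one_iff_unique]
      exact ⟨⟨fun a b => Subtype.ext ((hcon a a.2).trans (hcon b b.2).symm)⟩, ⟨1⟩⟩
    rw [hPcard] at h2
    exact hp.out.one_lt.ne' h2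
  -- lift to `GL₂`
  obtain ⟨B, hB, hBp⟩ : ∃ B : GL (Fin 2) F, ρ B = φ x0 ∧ B ^ p = 1 := by
    obtain ⟨B, hB⟩ := hs (φ x0)
    have h2 : ρ (B ^ p) = 1 := by rw [map_pow, hB, ← map_pow, hPexp x0 hx0, map_one]
    have h3 := hk' _ h2
    refine ⟨(B ^ (p - 1))⁻¹, ?_, ?_⟩
    · rw [map_inv, map_pow, hB, inv_eq_iff_mul_eq_one, ← pow_succ, Nat.sub_add_cancel hp.out.one_lt.le, ← map_pow,
        hPexp x0 hx0, map_one]
    · rw [inv_pow, ← pow_mul, mul_comm, pow_mul, h3, inv_one]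
  obtain ⟨C, t, rfl⟩ := exists_uu hF hBp
  -- the normalized homomorphism
  obtain ⟨φ', hφ'⟩ : ∃ φ' : L →* A, ∀ g, φ' g = ρ C⁻¹ * φ g * (ρ C⁻¹)⁻¹ :=
    ⟨(MulAut.conj (ρ C⁻¹)).toMonoidHom.comp φ, fun g => rfl⟩
  have hker : ∀ g, φ' g = 1 → φ g = 1 := by
    intro g hg
    rw [hφ'] at hg
    have h2 : ρ C⁻¹ * φ g = ρ C⁻¹ * 1 := by rw [mul_one]; exact mul_inv_eq_one.1 hg
    exact mul_left_cancel h2
  have h2 : φ' x0 = ρ (uu t) := by
    rw [hφ', ← hB, ← map_inv, ← map_mul, ← map_mul]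
    congr 1
    group
  have hTle : (P : Subgroup L).map φ' ≤ T ρ 1 := by
    have hz : (P : Subgroup L) = Subgroup.zpowers x0 := by
      apply le_antisymm
      · intro x hx
        have h3 := mem_zpowers_of_prime_card (p := Nat.card P) rfl (g := (⟨x0, hx0⟩ : P)) (g' := (⟨x, hx⟩ : P))
          (fun h => hx01 (congrArg Subtype.val h))
        obtain ⟨m, hm⟩ := h3
        exact ⟨m, congrArg Subtype.val hm⟩
      · rwa [Subgroup.zpowers_le]
    rw [hz, MonoidHom.map_zpowers, Subgroup.zpowers_le, h2, mem_T]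
    exact ⟨t, by rw [one_mul, inv_one, mul_one]⟩
  have hTcard : Nat.card (T ρ 1) ≤ Nat.card ((P : Subgroup L).map φ') := by
    have h3 : Nat.card ((P : Subgroup L).map φ') = p := by
      refine Eq.trans (Eq.symm ?_) hPcard
      refine Nat.card_eq_of_bijective (fun x : P => (⟨φ' x, x, x.2, rfl⟩ : (P : Subgroup L).map φ')) ⟨?_, ?_⟩
      · intro x y hxy
        have h2 : φ' x = φ' y := congrArg Subtype.val hxy
        have h3 : φ' ((y : L)⁻¹ * x) = 1 := by rw [map_mul, map_inv, h2, inv_mul_cancel]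
        exact Subtype.ext (inv_mul_eq_one.1 (hinj _ (mul_mem (inv_mem y.2) x.2) (hker _ h3))).symm
      · rintro ⟨_, x, hx, rfl⟩
        exact ⟨⟨x, hx⟩, rfl⟩
    rw [h3, ← hF]
    refine Nat.card_le_card_of_surjective (fun t : F => (⟨ρ (1 * uu t * 1⁻¹), (mem_T ρ).2 ⟨t, rfl⟩⟩ : T ρ 1)) ?_
    rintro ⟨a, ha⟩
    obtain ⟨t, rfl⟩ := (mem_T ρ).1 ha
    exact ⟨t, rfl⟩
  have N : Nrm ρ p φ' P :=
    { surj := hs
      exp := hPexp
      cen := fun g hg => hc g (hker g hg)
      one := fun g hg => h1 g (hker g hg)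
      img := Subgroup.eq_of_le_of_card_ge hTle hTcard }
  have hn' : ∃ P' : Sylow p L, P' ≠ P := by
    by_contra hcon
    push Not at hcon
    have : Subsingleton (Sylow p L) := ⟨fun a b => (hcon a).trans (hcon b).symm⟩
    exact hn (Sylow.normal_of_subsingleton P)
  exact ⟨N.fst, N.snd, N.thd hk hF hn'⟩

end Cfsg.Agent.H428.U2
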