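import Cfsg.Agent.H428.U2.Hom
import Cfsg.Agent.S5788
import Cfsg.Agent.ClassicalGeometry.AutPSL.Main
import Cfsg.Agent.H277.SK.AltSix

/-!
# The residual class: `StU2P` (helper428)
-/

set_option autoImplicit false
set_option linter.unusedSimpArgs false
set_option linter.unusedSectionVars false

namespace Cfsg.Agent.H428.U2

open Matrix Cfsg.Agent.ClassicalGeometry.AutPSL.Auto Cfsg.Agent.ClassicalGeometry.AutPSL.Main

universe u v w

/-! ### `A₆` -/

theorem alt_six {p : ℕ} (hp : p.Prime) (h11 : 11 ≤ p) {α : MulAut (alternatingGroup (Fin 6))} (h : α ^ p = 1) : α = 1 := by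
  obtain ⟨σ, hσ⟩ : ∃ σ, H277.SK.cn σ = α * α := by
    by_cases hα : H277.SK.Pr α
    · obtain ⟨σ, hσ⟩ := H277.SK.pr_cn hα
      exact ⟨σ * σ, by rw [map_mul, hσ]⟩
    · exact H277.SK.pr_cn (H277.SK.pr_mul hα hα)
  have h1 : σ ^ 720 = 1 := by
    have h2 : Nat.card (Equiv.Perm (Fin 6)) = 720 := by
      rw [Nat.card_eq_fintype_card, Fintype.card_perm, Fintype.card_fin]
      rfl
    rw [← h2]
    exact pow_card_eq_one'
  have h2 : α ^ 1440 = 1 := by
    have h3 : (α * α) ^ 720 = 1 := by rw [← hσ, ← map_pow, h1, map_one]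
    rw [← pow_two, ← pow_mul] at h3
    exact h3
  have h3 : Nat.Coprime p 1440 := by
    rw [Nat.Prime.coprime_iff_not_dvd hp]
    intro hd
    have h4 : (1440 : ℕ) = 2 ^ 5 * 3 ^ 2 * 5 := by norm_num
    rw [h4] at hd
    rcases (Nat.Prime.dvd_mul hp).1 hd with h5 | h5
    · rcases (Nat.Prime.dvd_mul hp).1 h5 with h6 | h6
      · exact absurd (Nat.le_of_dvd (by norm_num) (hp.dvd_of_dvd_pow h6)) (by omega)
      · exact absurd (Nat.le_of_dvd (by norm_num) (hp.dvd_of_dvd_pow h6)) (by omega)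
    · exact absurd (Nat.le_of_dvd (by norm_num) h5) (by omega)
  have h4 : orderOf α ∣ 1 := by
    rw [← h3]
    exact Nat.dvd_gcd (orderOf_dvd_of_pow_eq_one h) (orderOf_dvd_of_pow_eq_one h2)
  exact orderOf_eq_one_iff.1 (Nat.dvd_one.1 h4)

/-! ### `PSL₂(p)` -/

section psl

variable {F : Type v} [Field F]

/-- `GL₂ → Aut(PSL₂)` -/
def rhoP : GL (Fin 2) F →* MulAut (Matrix.ProjectiveSpecialLinearGroup (Fin 2) F) := lift.comp cj

theorem ringEquiv_eq [Finite F] {p : ℕ} [hp : Fact p.Prime] (hF : Nat.card F = p) (σ : F ≃+* F) : σ = 1 := by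
  have := Fintype.ofFinite F
  have hchar : CharP F p := by
    rw [Nat.card_eq_fintype_card] at hF
    exact charP_of_card_eq_prime hF
  have hbij : Function.Bijective (ZMod.castHom (dvd_refl p) F) := by
    rw [Fintype.bijective_iff_injective_and_card]
    refine ⟨(ZMod.castHom (dvd_refl p) F).injective, ?_⟩
    rw [ZMod.card, ← Nat.card_eq_fintype_card (α := F), hF]
  apply RingEquiv.ext
  intro x
  obtain ⟨n, rfl⟩ := hbij.2 x
  have h1 : (σ : F →+* F).comp (ZMod.castHom (dvd_refl p) F) = ZMod.castHom (dvd_refl p) F := Subsingleton.elim _ _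
  exact DFunLike.congr_fun h1 n

theorem rhoP_surj [Finite F] {p : ℕ} [hp : Fact p.Prime] (hF : Nat.card F = p) :
    Function.Surjective (rhoP : GL (Fin 2) F →* _) := by
  have := Fintype.ofFinite F
  have hchar : CharP F p := by
    rw [Nat.card_eq_fintype_card] at hF
    exact charP_of_card_eq_prime hF
  intro α
  obtain ⟨A, σ, rfl⟩ := surj_two p α
  refine ⟨A, ?_⟩
  rw [ringEquiv_eq hF σ, map_one, mul_one]
  rfl

theorem rhoP_ker {g : GL (Fin 2) F} (h : rhoP g = 1) : ∃ r : F, Matrix.scalar (Fin 2) r = (g : Matrix (Fin 2) (Fin 2) F) := by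
  have h1 : lift (cj g * fld 1) = lift (fld 1) := by
    rw [map_one, mul_one, map_one]
    exact h
  exact (injective_aux h1).1

theorem rhoP_ker_01 {g : GL (Fin 2) F} (h : rhoP g = 1) : g.1 0 1 = 0 := by
  obtain ⟨r, hr⟩ := rhoP_ker h
  rw [← hr]
  simp

theorem rhoP_ker_pow [Finite F] {p : ℕ} [hp : Fact p.Prime] (hF : Nat.card F = p) {g : GL (Fin 2) F} (h : rhoP g = 1) :
    g ^ (p - 1) = 1 := by
  have := Fintype.ofFinite F
  obtain ⟨r, hr⟩ := rhoP_ker h
  have hr0 : r ≠ 0 := by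
    rintro rfl
    have h1 : (g : Matrix (Fin 2) (Fin 2) F) * ((g⁻¹ : GL (Fin 2) F) : Matrix (Fin 2) (Fin 2) F) = 1 := by
      rw [← Units.val_mul, mul_inv_cancel, Units.val_one]
    rw [← hr, map_zero, zero_mul] at h1
    exact zero_ne_one h1
  have h1 : r ^ (p - 1) = 1 := by
    rw [← hF, Nat.card_eq_fintype_card]
    exact FiniteField.pow_card_sub_one_eq_one r hr0
  apply Units.ext
  rw [Units.val_pow_eq_pow_val, ← hr, ← map_pow, h1, map_one, Units.val_one]

end psl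

/-! ### the action on the socle -/

section core

variable {ι : Type} [Fintype ι] [DecidableEq ι] {F : Type v} [Field F] {H R : Subgroup (GL ι F)}

/-- conjugation on the normal subgroup `R` -/
def cjR (hn : ∀ h ∈ H, ∀ x ∈ R, h * x * h⁻¹ ∈ R) : H →* MulAut R where
  toFun h :=
    { toFun := fun x => ⟨h * x * (h : GL ι F)⁻¹, hn h h.2 x x.2⟩
      invFun := fun x => ⟨(h : GL ι F)⁻¹ * x * h, by simpa using hn _ (inv_mem h.2) x x.2⟩
      left_inv := fun x => Subtype.ext (by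
        show (h : GL ι F)⁻¹ * (h * x * (h : GL ι F)⁻¹) * h = x
        group)
      right_inv := fun x => Subtype.ext (by
        show (h : GL ι F) * ((h : GL ι F)⁻¹ * x * h) * (h : GL ι F)⁻¹ = x
        group)
      map_mul' := fun x y => Subtype.ext (by
        show (h : GL ι F) * (x * y) * (h : GL ι F)⁻¹ = h * x * (h : GL ι F)⁻¹ * (h * y * (h : GL ι F)⁻¹)
        group) }
  map_one' := by
    ext1 x
    apply Subtype.ext
    show (1 : GL ι F) * x * (1 : GL ι F)⁻¹ = x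
    group
  map_mul' h k := by
    ext1 x
    apply Subtype.ext
    show ((h : GL ι F) * k) * x * ((h : GL ι F) * k)⁻¹ = h * (k * x * (k : GL ι F)⁻¹) * (h : GL ι F)⁻¹
    group

theorem cjR_coe (hn : ∀ h ∈ H, ∀ x ∈ R, h * x * h⁻¹ ∈ R) (h : H) (x : R) :
    ((cjR hn h x : R) : GL ι F) = h * x * (h : GL ι F)⁻¹ := rfl

theorem exists_quo (hR : Cfsg.Geo.IsResidualCore H R) :
    ∃ φ : H →* MulAut (R ⧸ (Cfsg.Geo.scalars ι F).subgroupOf R), ∀ h, φ h = 1 → (h : GL ι F) ∈ Cfsg.Geo.scalars ι F := by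
  have hmap : ∀ h : H, ((Cfsg.Geo.scalars ι F).subgroupOf R).map (cjR hR.normal h : R ≃* R).toMonoidHom ≤
      (Cfsg.Geo.scalars ι F).subgroupOf R := by
    rintro h _ ⟨x, hx, rfl⟩
    rw [Subgroup.mem_subgroupOf]
    show (h : GL ι F) * x * (h : GL ι F)⁻¹ ∈ _
    exact Cfsg.Geo.scalars_normal.conj_mem _ (Subgroup.mem_subgroupOf.1 hx) _
  have hmap' : ∀ h : H, ((Cfsg.Geo.scalars ι F).subgroupOf R).map (cjR hR.normal h : R ≃* R).toMonoidHom =
      (Cfsg.Geo.scalars ι F).subgroupOf R := by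
    intro h
    refine le_antisymm (hmap h) ?_
    intro x hx
    refine ⟨cjR hR.normal h⁻¹ x, hmap h⁻¹ ⟨x, hx, rfl⟩, ?_⟩
    show cjR hR.normal h (cjR hR.normal h⁻¹ x) = x
    rw [← MulAut.mul_apply, ← map_mul, mul_inv_cancel, map_one]
    rfl
  refine ⟨
    { toFun := fun h => QuotientGroup.congr _ _ (cjR hR.normal h : R ≃* R) (hmap' h)
      map_one' := ?_
      map_mul' := ?_ }, ?_⟩
  · ext1 x
    obtain ⟨x, rfl⟩ := QuotientGroup.mk_surjective x
    show QuotientGroup.mk (cjR hR.normal 1 x) = _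
    rw [map_one]
    rfl
  · intro h k
    ext1 x
    obtain ⟨x, rfl⟩ := QuotientGroup.mk_surjective x
    show QuotientGroup.mk (cjR hR.normal (h * k) x) = QuotientGroup.mk (cjR hR.normal h (cjR hR.normal k x))
    rw [map_mul]
    rfl
  · intro h hh
    refine hR.centralizer_scalar h h.2 fun x hx => ?_
    have h1 := DFunLike.congr_fun hh (QuotientGroup.mk (⟨x, hx⟩ : R))
    have h2 : (QuotientGroup.mk (cjR hR.normal h ⟨x, hx⟩) : R ⧸ (Cfsg.Geo.scalars ι F).subgroupOf R) =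
      QuotientGroup.mk (⟨x, hx⟩ : R) := h1
    have h3 := QuotientGroup.eq.1 h2.symm
    rw [Subgroup.mem_subgroupOf] at h3
    have h4 : x⁻¹ * (h * x * (h : GL ι F)⁻¹) ∈ Cfsg.Geo.scalars ι F := h3
    have h5 := Cfsg.Geo.scalars_normal.conj_mem _ h4 x
    have h6 : x * (x⁻¹ * (h * x * (h : GL ι F)⁻¹)) * x⁻¹ = h * x * (h : GL ι F)⁻¹ * x⁻¹ := by group
    rwa [h6] at h5

end core

/-- scalars in the symplectic group are `±1` -/
theorem scalar_sq {F : Type v} [Field F] {g : GL (Fin 2 ⊕ Fin 2) F} (hg : g ∈ Cfsg.spGL 2 F)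
    (hs : g ∈ Cfsg.Geo.scalars (Fin 2 ⊕ Fin 2) F) : g ^ 2 = 1 := by
  obtain ⟨c, hc⟩ := (Cfsg.Geo.mem_scalars_iff g).1 hs
  obtain ⟨u, v, huv⟩ : ∃ u v : Fin 2 ⊕ Fin 2 → F, Cfsg.sympForm 2 F u v ≠ 0 := by
    refine ⟨Pi.single (Sum.inl 0) 1, Pi.single (Sum.inr 0) 1, ?_⟩
    unfold Cfsg.sympForm
    rw [Matrix.mulVec_single_one, single_one_dotProduct]
    show Matrix.J (Fin 2) F (Sum.inl 0) (Sum.inr 0) ≠ 0
    rw [Matrix.J, Matrix.fromBlocks_apply₁₂]
    simp
  have h1 : Cfsg.sympForm 2 F ((g : Matrix _ _ F) *ᵥ u) ((g : Matrix _ _ F) *ᵥ v) = Cfsg.sympForm 2 F u v := hg u v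
  rw [hc, Matrix.smul_mulVec, Matrix.smul_mulVec, Matrix.one_mulVec, Matrix.one_mulVec] at h1
  unfold Cfsg.sympForm at h1 huv
  rw [Matrix.mulVec_smul, smul_dotProduct, dotProduct_smul, smul_eq_mul, smul_eq_mul] at h1
  have h2 : (c : F) * c = 1 := by
    have h3 : ((c : F) * c - 1) * (u ⬝ᵥ Matrix.J (Fin 2) F *ᵥ v) = 0 := by linear_combination h1
    exact sub_eq_zero.1 ((mul_eq_zero.1 h3).resolve_right huv)
  apply Units.ext
  rw [Units.val_pow_eq_pow_val, hc, pow_two, Matrix.smul_mul, Matrix.mul_smul, one_mul, smul_smul, h2, one_smul,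
    Units.val_one]

/-- **the residual class** -/
theorem concl {F : Type u} [Field F] [Fintype F] {p : ℕ} [Fact p.Prime] (hp : 11 ≤ p) (hF : Fintype.card F = p)
    (H : Subgroup (GL (Fin 2 ⊕ Fin 2) F)) (hH : Cfsg.Geo.IsMaximalIn (Cfsg.spGL 2 F) H)
    (hS : Cfsg.Geo.InSymplecticResidualClass H) {G : Type v} [Group G] [Finite G] (f : G →* GL (Fin 2 ⊕ Fin 2) F)
    (hf : Function.Injective f) (hfH : f.range ≤ H) (hpG : p ∣ Nat.card G) (P : Sylow p G)
    (hn : ¬ (P : Subgroup G).Normal) : Concl p P := by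
  have hpp : p.Prime := Fact.out
  have hodd : Odd (Fintype.card F) := by
    rw [hF]
    exact hpp.odd_of_ne_two (by omega)
  obtain ⟨R, p', hR, hp', hchar, hcases⟩ := Cfsg.Agent.S5788.result hodd H hH hS
  obtain ⟨φ, hφ⟩ := exists_quo hR
  -- the homomorphism from `G`
  obtain ⟨fH, hfH'⟩ : ∃ fH : G →* H, ∀ g, ((fH g : H) : GL (Fin 2 ⊕ Fin 2) F) = f g :=
    ⟨f.codRestrict H fun g => hfH ⟨g, rfl⟩, fun g => rfl⟩
  have hker : ∀ g, φ (fH g) = 1 → f g ∈ Cfsg.Geo.scalars (Fin 2 ⊕ Fin 2) F := fun g hg => by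
    rw [← hfH']
    exact hφ _ hg
  have hcen : ∀ g, φ (fH g) = 1 → ∀ l, g * l = l * g := by
    intro g hg l
    apply hf
    rw [map_mul, map_mul]
    obtain ⟨c, hc⟩ := (Cfsg.Geo.mem_scalars_iff _).1 (hker g hg)
    apply Units.ext
    rw [Units.val_mul, Units.val_mul, hc]
    simp
  have hsq : ∀ g, φ (fH g) = 1 → g ^ 2 = 1 := by
    intro g hg
    apply hf
    rw [map_pow, map_one]
    exact scalar_sq (hH.1.le (hfH ⟨g, rfl⟩)) (hker g hg)
  have hone : ∀ g, φ (fH g) = 1 → g ^ p = 1 → g = 1 := by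
    intro g hg hgp
    have h3 : Nat.Coprime 2 p := by
      rw [Nat.coprime_primes Nat.prime_two hpp]
      omega
    have h4 : orderOf g ∣ 1 := by
      rw [← h3]
      exact Nat.dvd_gcd (orderOf_dvd_of_pow_eq_one (hsq g hg)) (orderOf_dvd_of_pow_eq_one hgp)
    exact orderOf_eq_one_iff.1 (Nat.dvd_one.1 h4)
  rcases hcases with ⟨⟨e⟩, -⟩ | ⟨-, h7⟩ | ⟨⟨e⟩, -⟩
  · -- `A₆`
    exfalso
    obtain ⟨x, hx⟩ := exists_prime_orderOf_dvd_card' p hpG
    have h1 : (MulAut.congr e (φ (fH x))) ^ p = 1 := by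
      rw [← map_pow, ← map_pow, ← map_pow, ← hx, pow_orderOf_eq_one, map_one, map_one, map_one]
    have h2 := alt_six hpp hp h1
    have h3 : φ (fH x) = 1 := (MulAut.congr e).injective (h2.trans (map_one _).symm)
    have h4 := hone x h3 (by rw [← hx, pow_orderOf_eq_one])
    rw [h4, orderOf_one] at hx
    omega
  · omega
  · have hF' : Nat.card F = p := by rw [Nat.card_eq_fintype_card, hF]
    refine concl_of_hom hF' rhoP (rhoP_surj hF') (fun g hg => rhoP_ker_01 hg) (fun g hg => rhoP_ker_pow hF' hg)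
      ((MulAut.congr e).toMonoidHom.comp (φ.comp fH)) (fun g hg => ?_) (fun g hg => ?_) hpG P hn
    · exact hcen g ((MulAut.congr e).injective (hg.trans (map_one _).symm))
    · exact hone g ((MulAut.congr e).injective (hg.trans (map_one _).symm))

end Cfsg.Agent.H428.U2
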