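import Cfsg.Agent.H428.U2.Main
import Cfsg.Agent.H103.GT.UTwoP

/-!
# `StCon` (helper428), for `StU2P` of S5211
-/

set_option autoImplicit false

namespace Cfsg.Agent.H428.U2

universe u v

theorem stCon : Cfsg.Agent.H103.GT.StCon.{u, v} := by
  intro F _ _ p _ hp hF H hH hS G _ _ f hf hfH hpG P hn
  have h := concl hp hF H hH hS f hf hfH hpG P hn
  exact ⟨h.1, h.2.1⟩

end Cfsg.Agent.H428.U2
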