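import Cfsg.Prelude.Def_GeometricClasses

/-!
# `StRes`: the symplectic type case (helper428)
-/

set_option autoImplicit false
set_option linter.unusedSimpArgs false

namespace Cfsg.Agent.H428.U2

open Matrix

universe u

theorem pow_char_one {F : Type u} [Field F] {p : ℕ} [hp : Fact p.Prime] [CharP F p] {c : F} (h : c ^ p = 1) : c = 1 := by
  have h1 : frobenius F p c = frobenius F p 1 := by
    rw [frobenius_def, h, map_one]
  exact frobenius_inj F p h1

theorem not_dvd_of {p k : ℕ} (hp : p.Prime) (h11 : 11 ≤ p) (hk1 : 1 ≤ k) (hk : k ≤ 4) (h : p ∣ 32 - 2 ^ k) : False := by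
  have h1 : p ≤ 32 - 2 ^ k := Nat.le_of_dvd (by interval_cases k <;> norm_num) h
  have h2 : p ≤ 30 := by
    have : 2 ≤ 2 ^ k := by
      calc 2 = 2 ^ 1 := by norm_num
        _ ≤ 2 ^ k := Nat.pow_le_pow_right (by norm_num) hk1
    omega
  interval_cases k <;> interval_cases p <;> first | omega | (exfalso; revert hp; norm_num)

/-- **no regular unipotent element normalizes a symplectic type group of order 32** -/
theorem eq_one_of_symp {ι : Type} [Fintype ι] [DecidableEq ι] [Nonempty ι] {F : Type u} [Field F] {p : ℕ}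
    [hp : Fact p.Prime] (h11 : 11 ≤ p) [CharP F p] {R : Subgroup (GL ι F)} (h32 : Nat.card R = 32)
    (h2 : Nat.card (Subgroup.center R) = 2) (habs : Cfsg.Geo.ActsAbsolutelyIrreducibly (Cfsg.Geo.matrixSet R))
    {x : GL ι F} (hx : x ^ p = 1) (hn : x ∈ Cfsg.Geo.subgroupNormalizer R) : x = 1 := by
  have hfin : Finite R := Nat.finite_of_card_ne_zero (by rw [h32]; norm_num)
  have := Fintype.ofFinite R
  have hn' : ∀ r ∈ R, x * r * x⁻¹ ∈ R := fun r hr => (Subgroup.mem_normalizer_iff.1 hn r).1 hr
  obtain ⟨f, hf⟩ : ∃ f : Function.End R, ∀ r : R, ((f r : R) : GL ι F) = x * r * x⁻¹ :=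
    ⟨fun r => ⟨x * r * x⁻¹, hn' r r.2⟩, fun r => rfl⟩
  have hfn : ∀ (n : ℕ) (r : R), (((f ^ n) r : R) : GL ι F) = x ^ n * r * (x ^ n)⁻¹ := by
    intro n
    induction n with
    | zero => intro r; rw [pow_zero, pow_zero]; show (r : GL ι F) = _; group
    | succ n ih =>
      intro r
      rw [pow_succ', pow_succ']
      show ((f ((f ^ n) r) : R) : GL ι F) = _
      rw [hf, ih]
      group
  have hfp : f ^ p ^ 1 = 1 := by
    rw [pow_one]
    funext r
    apply Subtype.ext
    rw [hfn, hx]
    show 1 * (r : GL ι F) * 1⁻¹ = r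
    group
  classical
  have hmod := Equiv.Perm.card_fixedPoints_modEq hfp
  -- the fixed subgroup
  obtain ⟨C, hC⟩ : ∃ C : Subgroup R, ∀ r, r ∈ C ↔ f r = r :=
    ⟨{ carrier := {r | f r = r}
       one_mem' := Subtype.ext (by rw [hf]; simp)
       mul_mem' := by
         intro a b ha hb
         have ha' : x * (a : GL ι F) * x⁻¹ = a := by rw [← hf, ha]
         have hb' : x * (b : GL ι F) * x⁻¹ = b := by rw [← hf, hb]
         apply Subtype.ext
         rw [hf, Subgroup.coe_mul]
         conv_rhs => rw [← ha', ← hb']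
         group
       inv_mem' := by
         intro a ha
         have ha' : x * (a : GL ι F) * x⁻¹ = a := by rw [← hf, ha]
         apply Subtype.ext
         rw [hf, Subgroup.coe_inv]
         conv_rhs => rw [← ha']
         group }, fun _ => Iff.rfl⟩
  have hcardC : Nat.card (Function.fixedPoints f) = Nat.card C :=
    Nat.card_congr (Equiv.subtypeEquivRight fun r => (hC r).symm)
  simp only [← Nat.card_eq_fintype_card] at hmod
  rw [hcardC, h32] at hmod
  -- a central element is fixed
  have hcen : ∀ z : R, z ∈ Subgroup.center R → f z ∈ Subgroup.center R := by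
    intro z hz
    rw [Subgroup.mem_center_iff] at hz ⊢
    intro g
    have h3 : x⁻¹ * g * x ∈ R := (Subgroup.mem_normalizer_iff.1 hn (x⁻¹ * g * x)).2 (by
      have h4 : x * (x⁻¹ * g * x) * x⁻¹ = g := by group
      rw [h4]
      exact g.2)
    have h4 := congrArg Subtype.val (hz ⟨_, h3⟩)
    have h5 : x⁻¹ * g * x * z = z * (x⁻¹ * g * x) := h4
    apply Subtype.ext
    rw [Subgroup.coe_mul, Subgroup.coe_mul, hf]
    calc (g : GL ι F) * (x * z * x⁻¹) = x * (x⁻¹ * g * x * z) * x⁻¹ := by group
      _ = x * z * x⁻¹ * g := by rw [h5]; group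
  obtain ⟨z, hz, hz1, hzu⟩ : ∃ z : R, z ∈ Subgroup.center R ∧ z ≠ 1 ∧ ∀ y ∈ Subgroup.center R, y = 1 ∨ y = z := by
    obtain ⟨a, b, hab, hu⟩ := Nat.card_eq_two_iff.1 h2
    have hall : ∀ y : Subgroup.center R, y = a ∨ y = b := by
      intro y
      have : y ∈ ({a, b} : Set (Subgroup.center R)) := by rw [hu]; exact Set.mem_univ y
      simpa using this
    rcases hall 1 with h1 | h1
    · refine ⟨b, b.2, ?_, fun y hy => ?_⟩
      · intro hb
        exact hab (h1.symm.trans (Subtype.ext hb.symm))
      · rcases hall ⟨y, hy⟩ with h | h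
        · left; exact congrArg Subtype.val (h.trans h1.symm)
        · right; exact congrArg Subtype.val h
    · refine ⟨a, a.2, ?_, fun y hy => ?_⟩
      · intro hb
        exact hab ((Subtype.ext hb : a = 1).trans h1)
      · rcases hall ⟨y, hy⟩ with h | h
        · right; exact congrArg Subtype.val h
        · left; exact congrArg Subtype.val (h.trans h1.symm)
  have hzC : z ∈ C := by
    rw [hC]
    rcases hzu _ (hcen z hz) with h | h
    · exfalso
      apply hz1
      have h3 := congrArg Subtype.val h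
      rw [hf] at h3
      apply Subtype.ext
      have h4 : x * (z : GL ι F) * x⁻¹ = 1 := h3
      have h5 : (z : GL ι F) = x⁻¹ * (x * z * x⁻¹) * x := by group
      rw [h5, h4, Subgroup.coe_one]
      group
    · exact h
  -- `C = R`
  have hCtop : ∀ r : R, r ∈ C := by
    have hdvd : Nat.card C ∣ 2 ^ 5 := by
      have := Subgroup.card_subgroup_dvd_card C
      rw [h32] at this
      exact this
    obtain ⟨k, hk5, hk⟩ := (Nat.dvd_prime_pow Nat.prime_two).1 hdvd
    have hk0 : 1 ≤ k := by
      by_contra hcon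
      have h3 : k = 0 := by omega
      rw [h3, pow_zero] at hk
      have h4 : C = ⊥ := Subgroup.card_eq_one.1 hk
      rw [h4, Subgroup.mem_bot] at hzC
      exact hz1 hzC
    have hk5' : k = 5 := by
      by_contra hcon
      have h3 : k ≤ 4 := by omega
      apply not_dvd_of hp.out h11 hk0 h3
      rw [hk] at hmod
      have h4 : 2 ^ k ≤ 32 := by
        calc 2 ^ k ≤ 2 ^ 5 := Nat.pow_le_pow_right (by norm_num) hk5
          _ = 32 := by norm_num
      exact (Nat.modEq_iff_dvd' h4).1 hmod.symm
    have h3 : C = ⊤ := by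
      apply Subgroup.eq_top_of_card_eq
      rw [hk, hk5', h32]
      norm_num
    intro r
    rw [h3]
    exact Subgroup.mem_top r
  -- `x` is a scalar
  obtain ⟨c, hc⟩ := habs.2 (x : Matrix ι ι F) (by
    rintro _ ⟨r, hr, rfl⟩
    have h3 := (hC ⟨r, hr⟩).1 (hCtop ⟨r, hr⟩)
    have h4 := congrArg Subtype.val h3
    rw [hf] at h4
    have h5 : x * r = r * x := by
      have h6 : x * r * x⁻¹ = r := h4
      rw [mul_inv_eq_iff_eq_mul] at h6
      exact h6
    have h6 := congrArg Units.val h5
    exact h6)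
  have hcp : c ^ p = 1 := by
    have h3 := congrArg Units.val hx
    rw [Units.val_pow_eq_pow_val, hc, smul_pow, one_pow, Units.val_one] at h3
    obtain ⟨i⟩ := ‹Nonempty ι›
    have h4 := congrFun (congrFun h3 i) i
    simpa using h4
  apply Units.ext
  rw [hc, pow_char_one hcp, one_smul, Units.val_one]

end Cfsg.Agent.H428.U2
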